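import Cfsg.Agent.H216.Pi.Lie
import Cfsg.Agent.H952.RcForm

/-!
# S4324, predicates for the classical rows (helper216)

* `Scal F g` : `g : V → V` is a scalar;
* `Good s Y Y1` (`Y`, `Y1` groups of linear automorphisms of `W`): a subgroup of `Y1` which is normalised by `Y` and is an
  `s'`-group modulo scalars consists of scalars; a semilinear bijection commuting with `Y` modulo scalars is a scalar;
* `Sec π g` : the semilinear bijection `g` acts on `B` and on its quotient `W` (`π : B → W` linear, onto).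
-/

set_option autoImplicit false

namespace Cfsg.Agent.H216.Pi

open Subgroup Cfsg
open Cfsg.Agent.BpCl (Semi SemiIso Iso)

section

variable (F : Type*) {V : Type*} [Field F] [AddCommGroup V] [Module F V]

/-- `g` is a scalar -/
def Scal (g : V → V) : Prop := ∃ c : F, ∀ v, g v = c • v

end

section

variable {F : Type*} {W : Type*} [Field F] [AddCommGroup W] [Module F W]

/-- `Y` is a good group on `W` : see the head of the file -/
structure Good (s : ℕ) (Y Y1 : Subgroup (W ≃ₗ[F] W)) : Prop where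
  core : ∀ N : Subgroup (W ≃ₗ[F] W), N ≤ Y1 → (∀ y ∈ Y, ∀ n ∈ N, y * n * y⁻¹ ∈ N) →
    (∀ n ∈ N, ∃ k : ℕ, ¬ s ∣ k ∧ Scal F ⇑(n ^ k)) → ∀ n ∈ N, Scal F ⇑n
  cent : ∀ (φ : F ≃+* F) (g : Equiv.Perm W), Semi φ g → (∀ y ∈ Y, ∃ c : F, ∀ w, g (y w) = c • y (g w)) → Scal F ⇑g

end

section

variable {F : Type*} {V W : Type*} [Field F] [AddCommGroup V] [Module F V] [AddCommGroup W] [Module F W]

/-- `g` stabilises `B` and acts on the quotient `π : B → W` -/
structure Sec (g : V → V) {B : Submodule F V} (π : B →ₗ[F] W) : Prop where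
  mem : ∀ v ∈ B, g v ∈ B
  ker : ∀ v : B, π v = 0 → π ⟨g v, mem v v.2⟩ = 0

end

end Cfsg.Agent.H216.Pi
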