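import Cfsg.Agent.H208.PiExc.Rows
import Cfsg.Agent.H73.Pi.GraphFieldE6

/-!
# S4324: the condition `CY` of `E₆`, `E₇`, `E₈` (helper216, from helper208's `cy_78`, `cy_six` and helper73's
`inC_graphField`)
-/

set_option autoImplicit false

namespace Cfsg.Agent.H216.Pi.CyE

open Subgroup Cfsg Cfsg.Lie Cfsg.Agent.H216.Pi Cfsg.Agent.H208.PiExc

theorem gf6 (F : Type) [Field F] [Fintype F] : GF6 F := fun _ _ _ _ _ hxx hd hg hφ hg1 hφ1 hxy z =>
  (Cfsg.Agent.H73.Pi.GraphFieldE6.inC_graphField hxx hd hg hφ hg1 hφ1 hxy z).mono (by norm_num)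

theorem not_comm_congr {K L : Type} [Group K] [Group L] (e : K ≃* L) (h : ¬ IsMulCommutative K) :
    ¬ IsMulCommutative L := by
  intro h1
  apply h
  refine ⟨⟨fun a b => e.injective ?_⟩⟩
  rw [map_mul, map_mul]
  exact h1.is_comm.comm _ _

theorem cy_E6 (t : ℕ) (K : Type) [Group K] [Finite K] [IsSimpleGroup K] (hK : ¬ IsMulCommutative K) (ht : t.Prime)
    (h : ∃ (F : Type) (_ : Field F) (_ : Fintype F) (_ : CharP F t), Nonempty (K ≃* Lie.chevE6.group F)) :
    CY t K := by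
  obtain ⟨F, _, _, _, ⟨e⟩⟩ := h
  have : Fact t.Prime := ⟨ht⟩
  have : Finite ↥(chevE6.group F) := Finite.of_equiv K e.toEquiv
  have : IsSimpleGroup ↥(chevE6.group F) := (MulEquiv.isSimpleGroup_congr e).1 inferInstance
  exact cy_tr e.symm (cy_six (gf6 F) (not_comm_congr e hK))

theorem cy_E7 (t : ℕ) (K : Type) [Group K] [Finite K] [IsSimpleGroup K] (hK : ¬ IsMulCommutative K) (ht : t.Prime)
    (h : ∃ (F : Type) (_ : Field F) (_ : Fintype F) (_ : CharP F t), Nonempty (K ≃* Lie.chevE7.group F)) :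
    CY t K := by
  obtain ⟨F, _, _, _, ⟨e⟩⟩ := h
  have : Fact t.Prime := ⟨ht⟩
  have : Finite ↥(chevE7.group F) := Finite.of_equiv K e.toEquiv
  have : IsSimpleGroup ↥(chevE7.group F) := (MulEquiv.isSimpleGroup_congr e).1 inferInstance
  exact cy_tr e.symm (cy_78 (Or.inl rfl) (not_comm_congr e hK))

theorem cy_E8 (t : ℕ) (K : Type) [Group K] [Finite K] [IsSimpleGroup K] (hK : ¬ IsMulCommutative K) (ht : t.Prime)
    (h : ∃ (F : Type) (_ : Field F) (_ : Fintype F) (_ : CharP F t), Nonempty (K ≃* Lie.chevE8.group F)) :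
    CY t K := by
  obtain ⟨F, _, _, _, ⟨e⟩⟩ := h
  have : Fact t.Prime := ⟨ht⟩
  have : Finite ↥(chevE8.group F) := Finite.of_equiv K e.toEquiv
  have : IsSimpleGroup ↥(chevE8.group F) := (MulEquiv.isSimpleGroup_congr e).1 inferInstance
  exact cy_tr e.symm (cy_78 (Or.inr rfl) (not_comm_congr e hK))

end Cfsg.Agent.H216.Pi.CyE
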